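import Mathlib
import Cfsg.Agent.Lib.PGroup.NormalRank
import Cfsg.Agent.Lib.PGroup.CyclicMax
import Cfsg.Agent.Lib.Basic.SylowUtil

set_option autoImplicit false

namespace Cfsg.Agent.Lib.S1915Aux

open Subgroup
open scoped commutatorElement
open Cfsg.Agent.Lib.PGroup.CyclicMax Cfsg.Agent.Lib.PGroup.NormalRank Cfsg.Agent.Lib.PGroup.Critical

variable {R : Type*} [Group R]

theorem mem_zpowers_sq {b y : R} (hb : b ^ 2 = 1) (hy : y ∈ zpowers b) : y = 1 ∨ y = b := by
  obtain ⟨k, rfl⟩ := hy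
  rcases Int.even_or_odd' k with ⟨c, rfl | rfl⟩
  · left
    show b ^ (2 * c) = 1
    rw [zpow_mul, zpow_ofNat, hb, one_zpow]
  · right
    show b ^ (2 * c + 1) = b
    rw [zpow_add, zpow_mul, zpow_ofNat, hb, one_zpow, one_mul, zpow_one]

/-- The unique involution of a cyclic `2`-group. -/
theorem eq_of_sq_eq_one {u w : R} {n : ℕ} (hn : 1 ≤ n) (hu : orderOf u = 2 ^ n)
    (hw : w ∈ zpowers u) (hw2 : w ^ 2 = 1) (hw1 : w ≠ 1) : w = u ^ 2 ^ (n - 1) := by
  have hfin : IsOfFinOrder u := by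
    rw [← orderOf_pos_iff, hu]; positivity
  obtain ⟨j, rfl⟩ : ∃ j : ℕ, w = u ^ j := by
    obtain ⟨k, hk⟩ := (hfin.mem_powers_iff_mem_zpowers.mpr hw)
    exact ⟨k, hk.symm⟩
  have h2n : (2 : ℕ) ^ n = 2 * 2 ^ (n - 1) := by
    rw [← pow_succ']; congr 1; omega
  have hd : 2 ^ (n - 1) ∣ j := by
    have : 2 ^ n ∣ j * 2 := by
      rw [← hu]; apply orderOf_dvd_of_pow_eq_one; rw [pow_mul]; exact hw2
    rw [h2n, mul_comm j] at this
    exact Nat.dvd_of_mul_dvd_mul_left (by norm_num : 0 < 2) this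
  obtain ⟨c, rfl⟩ := hd
  have hz2 : (u ^ 2 ^ (n - 1)) ^ 2 = 1 := by
    rw [← pow_mul, mul_comm, ← h2n, ← hu, pow_orderOf_eq_one]
  rw [pow_mul] at hw1 ⊢
  rcases Nat.even_or_odd' c with ⟨e, rfl | rfl⟩
  · exfalso; apply hw1; rw [pow_mul, hz2, one_pow]
  · rw [pow_succ, pow_mul, hz2, one_pow, one_mul]

variable [Finite R]

/-- A normal four-subgroup gives a central `p` and a second `q`. -/
theorem no_four [hp : Fact (Nat.Prime 2)] (hR : IsPGroup 2 R) (T : Subgroup R)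
    (hno : ∀ p q : R, p ∈ T → q ∈ T → p ^ 2 = 1 → q ^ 2 = 1 → p ≠ 1 → q ≠ 1 → p ≠ q →
      (∀ r, r * p * r⁻¹ = p) → (∀ r, r * q * r⁻¹ = q ∨ r * q * r⁻¹ = p * q) → False)
    (E : Subgroup R) (hET : E ≤ T) (hEn : E.Normal) (hEc : Nat.card E = 4)
    (hE2 : ∀ x ∈ E, x ^ 2 = 1) : False := by
  classical
  haveI := hEn
  have hne : E ≠ ⊥ := by
    rintro rfl
    simp at hEc
  have h1 := Cfsg.Agent.Lib.PGroup.Basic.inf_center_ne_bot hR hne
  obtain ⟨⟨p, hpE, hpZ⟩, hp1⟩ := Subgroup.ne_bot_iff_exists_ne_one.mp h1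
  have hp1' : p ≠ 1 := fun h => hp1 (Subtype.ext h)
  have hpc : ∀ r, r * p * r⁻¹ = p := by
    intro r
    rw [mul_inv_eq_iff_eq_mul]
    exact (mem_center_iff.mp hpZ r)
  have hp2 := hE2 p hpE
  have hoE : Nat.card (zpowers p) = 2 := by
    rw [Nat.card_zpowers]; exact orderOf_eq_prime hp2 hp1'
  obtain ⟨q, hqE, hq⟩ : ∃ q ∈ E, q ∉ zpowers p := by
    by_contra h
    push Not at h
    have := Subgroup.card_le_of_le (show E ≤ zpowers p from h)
    omega
  have hq1 : q ≠ 1 := fun h => hq (h ▸ one_mem _)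
  have hqp : p ≠ q := fun h => hq (h ▸ mem_zpowers p)
  have hpq1 : p * q ≠ 1 := by
    intro h
    apply hqp
    have : q = p⁻¹ := (inv_eq_of_mul_eq_one_right h).symm
    rw [this]
    have : p * p = 1 := by rw [← sq]; exact hp2
    exact (inv_eq_of_mul_eq_one_right this).symm
  have hpqp : p * q ≠ p := by
    intro h; exact hq1 (by simpa using h)
  have hpqq : p * q ≠ q := by
    intro h; exact hp1' (by simpa using h)
  have key : ∀ x ∈ E, x = 1 ∨ x = p ∨ x = q ∨ x = p * q := by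
    by_contra h
    push Not at h
    obtain ⟨x, hx, h1', h2', h3', h4'⟩ := h
    let S : Finset R := {1, p, q, p * q, x}
    have hS : S.card = 5 := by
      simp only [S]
      rw [Finset.card_insert_of_notMem, Finset.card_insert_of_notMem, Finset.card_insert_of_notMem,
        Finset.card_insert_of_notMem, Finset.card_singleton]
      · simpa using h4'.symm
      · simp only [Finset.mem_insert, Finset.mem_singleton, not_or]
        exact ⟨fun h => hpqq h.symm, h3'.symm⟩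
      · simp only [Finset.mem_insert, Finset.mem_singleton, not_or]
        exact ⟨hqp, fun h => hpqp h.symm, h2'.symm⟩
      · simp only [Finset.mem_insert, Finset.mem_singleton, not_or]
        exact ⟨hp1'.symm, hq1.symm, hpq1.symm, h1'.symm⟩
    have hsub : (S : Set R) ⊆ E := by
      intro y hy
      simp only [S, Finset.coe_insert, Finset.coe_singleton, Set.mem_insert_iff,
        Set.mem_singleton_iff] at hy
      rcases hy with rfl | rfl | rfl | rfl | rfl
      · exact one_mem _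
      · exact hpE
      · exact hqE
      · exact mul_mem hpE hqE
      · exact hx
    have h5 := Set.ncard_le_ncard hsub (Set.toFinite _)
    rw [Set.ncard_coe_finset, hS, ← Nat.card_coe_set_eq] at h5
    have h6 : Nat.card (E : Set R) = 4 := hEc
    omega
  refine hno p q (hET hpE) (hET hqE) hp2 (hE2 q hqE) hp1' hq1 hqp hpc ?_
  intro r
  have hmem := hEn.conj_mem q hqE r
  rcases key _ hmem with h | h | h | h
  · exfalso; apply hq1
    have : q = r⁻¹ * (r * q * r⁻¹) * r := by group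
    rw [this, h]; group
  · exfalso; apply hqp
    have h3 := hpc r⁻¹
    have : q = r⁻¹ * (r * q * r⁻¹) * r := by group
    rw [this, h]
    simpa using h3.symm
  · left; exact h
  · right; exact h

/-- **The structure of `T` when no four-group in `T` is normal in the `2`-group `R`.** -/
theorem partA (hR : IsPGroup 2 R) (T : Subgroup R) [hT : T.Normal]
    (hno : ∀ p q : R, p ∈ T → q ∈ T → p ^ 2 = 1 → q ^ 2 = 1 → p ≠ 1 → q ≠ 1 → p ≠ q →
      (∀ r, r * p * r⁻¹ = p) → (∀ r, r * q * r⁻¹ = q ∨ r * q * r⁻¹ = p * q) → False)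
    (s t : R) (hs : s ∈ T) (ht : t ∈ T) (hs2 : s ^ 2 = 1) (ht2 : t ^ 2 = 1) (hs1 : s ≠ 1)
    (ht1 : t ≠ 1) (hst : s ≠ t) :
    ∃ (u : R) (n : ℕ), 2 ≤ n ∧ orderOf u = 2 ^ n ∧ u ∈ T ∧ (∀ r, r * u * r⁻¹ ∈ zpowers u) ∧
      ∀ y ∈ T, y * u ^ (2 ^ (n - 2)) = u ^ (2 ^ (n - 2)) * y → y ∈ zpowers u := by
  haveI : Fact (Nat.Prime 2) := ⟨Nat.prime_two⟩
  obtain ⟨A, hAT, hAn, hAc, hAmax⟩ := exists_max_normal_abelian hR T
  haveI := hAn
  have hcyc : IsCyclic A := by
    by_contra hnc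
    obtain ⟨E, hEA, hEn, hEe, hEc⟩ := exists_elemAb_of_abelian_noncyclic hR A hAc hnc
    exact no_four hR T hno E (hEA.trans hAT) hEn (by rw [hEc]; norm_num) hEe.2
  obtain ⟨u, rfl⟩ := exists_zpowers_eq_of_isCyclic A hcyc
  obtain ⟨n, hn⟩ := (IsPGroup.iff_orderOf.mp hR) u
  have huT : u ∈ T := hAT (mem_zpowers u)
  have hact : ∀ r, r * u * r⁻¹ ∈ zpowers u := fun r => hAn.conj_mem u (mem_zpowers u) r
  have hcent : ∀ x ∈ T, x * u = u * x → x ∈ zpowers u := by
    intro x hx hxu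
    apply hAmax x hx
    rw [mem_centralizer_iff]
    rintro y ⟨k, rfl⟩
    have : Commute x u := hxu
    exact ((this.zpow_right k).eq).symm
  have hn2 : 2 ≤ n := by
    by_contra hlt
    have hu2 : u ^ 2 = 1 := by
      have : orderOf u ∣ 2 := by
        rw [hn]
        exact (pow_dvd_pow 2 (by omega : n ≤ 1)).trans (by norm_num)
      exact orderOf_dvd_iff_pow_eq_one.mp this
    have huc : ∀ r, r * u * r⁻¹ = u := by
      intro r
      rcases mem_zpowers_sq hu2 (hact r) with h | h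
      · have h1 : u = 1 := by
          have : u = r⁻¹ * (r * u * r⁻¹) * r := by group
          rw [this, h]; group
        rw [h1]; group
      · exact h
    have hs' := mem_zpowers_sq hu2 (hcent s hs (by
      have := huc s; rwa [mul_inv_eq_iff_eq_mul] at this))
    have ht' := mem_zpowers_sq hu2 (hcent t ht (by
      have := huc t; rwa [mul_inv_eq_iff_eq_mul] at this))
    rcases hs' with h | h
    · exact hs1 h
    · rcases ht' with h' | h'
      · exact ht1 h'
      · exact hst (h.trans h'.symm)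
  refine ⟨u, n, hn2, hn, huT, hact, ?_⟩
  obtain ⟨N, hN⟩ : ∃ N, N = 2 ^ (n - 2) := ⟨_, rfl⟩
  rw [← hN]
  have h4N : (2 : ℕ) ^ n = 4 * N := by
    rw [hN]
    have : n = (n - 2) + 2 := by omega
    conv_lhs => rw [this, pow_add]
    ring
  have hNpos : 0 < N := by rw [hN]; positivity
  set b := u ^ N with hb
  by_contra hC
  push Not at hC
  obtain ⟨y, hyT, hyb, hyu⟩ := hC
  haveI hbn : (zpowers b).Normal := by
    refine ⟨fun w hw g => ?_⟩
    obtain ⟨i, rfl⟩ := hw
    show g * b ^ i * g⁻¹ ∈ _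
    rw [← conj_zpow]
    apply zpow_mem
    obtain ⟨k, hk⟩ := SC.exists_nat_pow (hact g)
    rw [hb, ← conj_pow, hk, ← pow_mul, mul_comm, pow_mul]
    exact pow_mem (mem_zpowers _) _
  have hCn : (T ⊓ centralizer (zpowers b : Set R)).Normal := by infer_instance
  have hcb : ∀ x, x * b = b * x → x ∈ centralizer (zpowers b : Set R) := by
    intro x hx
    rw [mem_centralizer_iff]
    rintro w ⟨k, rfl⟩
    have : Commute x b := hx
    exact ((this.zpow_right k).eq).symm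
  have hnotle : ¬ (T ⊓ centralizer (zpowers b : Set R)) ≤ zpowers u :=
    fun h => hyu (h ⟨hyT, hcb y hyb⟩)
  obtain ⟨x, hxC, hxA, hx2, hxc⟩ := exists_mem_central_mod hR (zpowers u) _ hnotle
  have hxT : x ∈ T := hxC.1
  have hxb : x * b = b * x :=
    (mem_centralizer_iff.mp hxC.2 b (mem_zpowers b)).symm
  have hxu : x * u ≠ u * x := fun h => hxA (hcent x hxT h)
  obtain ⟨k, hk⟩ := SC.exists_nat_pow (hact x)
  have h1 : u ^ (k * N) = u ^ N := by
    have := conj_pow_eq hk N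
    rw [← this, ← hb, hxb]; group
  have hk4 : k ≡ 1 [MOD 4] := by
    have h2 := (pow_eq_pow_iff_modEq).mp h1
    rw [hn, h4N] at h2
    have h3 : k * N ≡ 1 * N [MOD 4 * N] := by simpa using h2
    exact Nat.ModEq.mul_right_cancel' hNpos.ne' h3
  have hk2 : k * k ≡ 1 [MOD 2 ^ n] := by
    have h5 := pow_conj_eq hk 2
    have hcomm : x ^ 2 * u = u * x ^ 2 := by
      obtain ⟨i, hi⟩ := hx2
      rw [← hi]
      show u ^ i * u = u * u ^ i
      exact ((Commute.refl u).zpow_left i).eq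
    have h6 : u ^ (k ^ 2) = u ^ 1 := by
      rw [← h5, pow_one, hcomm, mul_assoc, mul_inv_cancel, mul_one]
    have h7 := (pow_eq_pow_iff_modEq).mp h6
    rw [hn] at h7
    rw [← sq]; exact h7
  have hnotk : ¬ k ≡ 1 [MOD 2 ^ n] := by
    intro h
    apply hxu
    have h8 : u ^ k = u ^ 1 := by
      apply (pow_eq_pow_iff_modEq).mpr
      rw [hn]; exact h
    rw [pow_one] at h8
    have h8' := hk.trans h8
    rwa [mul_inv_eq_iff_eq_mul] at h8'
  have hn3 : 3 ≤ n := by
    by_contra hlt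
    have : n = 2 := by omega
    subst this
    exact hnotk hk4
  have h2d : (4 : ℕ) ∣ 2 ^ (n - 1) := by
    have : n - 1 = (n - 3) + 2 := by omega
    rw [this, pow_add]; exact ⟨2 ^ (n - 3), by ring⟩
  have h9 : k ≡ 1 [MOD 2 ^ (n - 1)] := by
    rcases two_pow_sq_one (by omega) hk2 with h | h
    · exact h
    · exfalso
      have h10 : k + 1 ≡ 0 [MOD 4] := h.of_dvd h2d
      unfold Nat.ModEq at h10 hk4
      omega
  have h2n : (2 : ℕ) ^ n = 2 * 2 ^ (n - 1) := by
    rw [← pow_succ']; congr 1; omega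
  have hxact : x * u * x⁻¹ = u ^ (1 + 2 ^ (n - 1)) := by
    rw [hk]
    apply (pow_eq_pow_iff_modEq).mpr
    rw [hn]
    rcases modEq_or_add_of_modEq h9 with h | h
    · exfalso; apply hnotk; rw [h2n]; exact h
    · rw [h2n]; exact h
  -- the group `E`
  have hEle : (zpowers u ⊔ zpowers x : Subgroup R) ≤ T :=
    sup_le hAT (zpowers_le.mpr hxT)
  have huE : u ∈ (zpowers u ⊔ zpowers x : Subgroup R) :=
    (le_sup_left : zpowers u ≤ _) (mem_zpowers u)
  have hxE : x ∈ (zpowers u ⊔ zpowers x : Subgroup R) :=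
    (le_sup_right : zpowers x ≤ _) (mem_zpowers x)
  have hsc : SC 2 n (⟨u, huE⟩ : (zpowers u ⊔ zpowers x : Subgroup R)) := by
    refine ⟨hR.to_subgroup _, ?_, ?_, ?_⟩
    · rw [Subgroup.orderOf_mk]; exact hn
    · rintro ⟨g, hg⟩
      obtain ⟨j, hj⟩ := SC.exists_nat_pow (hact g)
      exact ⟨j, Subtype.ext hj⟩
    · rintro ⟨g, hg⟩ hgc
      have h11 : g * u = u * g := congrArg Subtype.val hgc
      obtain ⟨j, hj⟩ := SC.exists_nat_pow (hcent g (hEle hg) h11)
      have : (⟨g, hg⟩ : (zpowers u ⊔ zpowers x : Subgroup R)) = ⟨u, huE⟩ ^ j := Subtype.ext hj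
      rw [this]
      exact pow_mem (mem_zpowers _) _
  have hact' : (⟨x, hxE⟩ : (zpowers u ⊔ zpowers x : Subgroup R)) * ⟨u, huE⟩ * ⟨x, hxE⟩⁻¹ =
      ⟨u, huE⟩ ^ (1 + 2 ^ (n - 1)) := Subtype.ext hxact
  obtain ⟨⟨y', hy'E⟩, hy'n, hy'2, hy'act⟩ := hsc.modular_case hn3 hact'
  have hy'2' : y' ^ 2 = 1 := congrArg Subtype.val hy'2
  have hy'a : y' * u * y'⁻¹ = u ^ (1 + 2 ^ (n - 1)) := congrArg Subtype.val hy'act
  have hy'u : y' ∉ zpowers u := by
    intro h
    apply hy'n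
    obtain ⟨j, hj⟩ := SC.exists_nat_pow h
    have : (⟨y', hy'E⟩ : (zpowers u ⊔ zpowers x : Subgroup R)) = ⟨u, huE⟩ ^ j := Subtype.ext hj
    rw [this]
    exact pow_mem (mem_zpowers _) _
  -- central modulo `zpowers u`
  have hstep : (zpowers u ⊔ zpowers x : Subgroup R) ≤ Subgroup.upperCentralSeriesStep (zpowers u) := by
    apply sup_le
    · intro w hw
      rw [Subgroup.mem_upperCentralSeriesStep]
      intro r
      have e : w * r * w⁻¹ * r⁻¹ = w * (r * w⁻¹ * r⁻¹) := by group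
      rw [commutatorElement_def, e]
      exact mul_mem hw (hAn.conj_mem _ (inv_mem hw) r)
    · rw [zpowers_le, Subgroup.mem_upperCentralSeriesStep]
      exact fun r => hxc r
  have hyc : ∀ r, r * y' * r⁻¹ * y'⁻¹ ∈ zpowers u := by
    intro r
    have h12 := (Subgroup.mem_upperCentralSeriesStep _ _).mp (hstep hy'E) r
    rw [commutatorElement_def] at h12
    have e : r * y' * r⁻¹ * y'⁻¹ = (y' * r * y'⁻¹ * r⁻¹)⁻¹ := by group
    rw [e]
    exact inv_mem h12
  -- the central involution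
  set z := u ^ 2 ^ (n - 1) with hz
  have hz2 : z ^ 2 = 1 := by
    rw [hz, ← pow_mul, mul_comm, ← h2n, ← hn, pow_orderOf_eq_one]
  have hz1 : z ≠ 1 := by
    rw [hz]
    exact pow_ne_one_of_lt_orderOf (by positivity) (by
      rw [hn, h2n]
      have : 0 < 2 ^ (n - 1) := by positivity
      omega)
  have hzu : z ∈ zpowers u := pow_mem (mem_zpowers u) _
  have hzc : ∀ r, r * z * r⁻¹ = z := by
    intro r
    apply eq_of_sq_eq_one (by omega) hn (hAn.conj_mem z hzu r)
    · rw [conj_pow, hz2]; group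
    · intro h
      apply hz1
      have : z = r⁻¹ * (r * z * r⁻¹) * r := by group
      rw [this, h]; group
  refine hno z y' (hAT hzu) (hEle hy'E) hz2 hy'2' hz1 ?_ ?_ hzc ?_
  · rintro rfl; exact hy'n (one_mem _)
  · intro h; exact hy'u (h ▸ hzu)
  intro r
  obtain ⟨i, hi⟩ := SC.exists_nat_pow (hyc r)
  have hform : r * y' * r⁻¹ = u ^ i * y' := by
    rw [← hi]; group
  have hsq : (r * y' * r⁻¹) ^ 2 = 1 := by rw [conj_pow, hy'2']; group
  rw [hform] at hsq
  have h13 : (u ^ i * y') ^ 2 = u ^ (i * (2 + 2 ^ (n - 1))) := by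
    have h7 : y' * u ^ i * y'⁻¹ = u ^ ((1 + 2 ^ (n - 1)) * i) := conj_pow_eq hy'a i
    have h8 : (u ^ i * y') ^ 2 = u ^ i * (y' * u ^ i * y'⁻¹) * y' ^ 2 := by
      rw [sq, sq]; group
    rw [h8, h7, hy'2', mul_one, ← pow_add]
    congr 1; ring
  rw [h13] at hsq
  have hdvd : 2 ^ n ∣ i * (2 + 2 ^ (n - 1)) := by
    rw [← hn]
    exact orderOf_dvd_of_pow_eq_one hsq
  obtain ⟨w, hw⟩ : ∃ w, 2 ^ (n - 1) = 4 * w := h2d
  have hNi : 2 ^ (n - 1) ∣ i := by
    have h14 : i * (2 + 2 ^ (n - 1)) = 2 * (i * (1 + 2 * w)) := by rw [hw]; ring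
    rw [h14, h2n] at hdvd
    have h15 : 2 ^ (n - 1) ∣ i * (1 + 2 * w) := Nat.dvd_of_mul_dvd_mul_left (by norm_num) hdvd
    have hco : Nat.Coprime (2 ^ (n - 1)) (1 + 2 * w) := by
      apply Nat.Coprime.pow_left
      exact Nat.coprime_two_left.mpr ⟨w, by ring⟩
    exact hco.dvd_of_dvd_mul_right h15
  obtain ⟨j, rfl⟩ := hNi
  have h16 : u ^ (2 ^ (n - 1) * j) = z ^ j := by rw [hz, pow_mul]
  rcases Nat.even_or_odd' j with ⟨c, rfl | rfl⟩
  · left
    rw [hform, h16, pow_mul, hz2, one_pow, one_mul]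
  · right
    rw [hform, h16, pow_add, pow_mul, hz2, one_pow, one_mul, pow_one]

end Cfsg.Agent.Lib.S1915Aux
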