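import Mathlib
import Cfsg.Agent.Lib.S1915Aux.PartA
import Cfsg.Agent.S0111

set_option autoImplicit false

namespace Cfsg.Agent.Lib.S1915Aux

open Subgroup
open scoped commutatorElement Pointwise
open Cfsg.Agent.Lib.PGroup.CyclicMax Cfsg.Agent.Lib.Basic.SylowUtil

variable {G : Type*} [Group G] [Finite G]

/-- In a group with a normal subgroup: a Sylow-type conjugacy statement inside `Y ∩ C(t)`. -/
theorem exists_conj_in (H S₁ : Subgroup G) (hS₁H : S₁ ≤ H) (hS₁ : IsPGroup 2 S₁)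
    (hmax : ∀ Q : Subgroup G, S₁ ≤ Q → Q ≤ H → IsPGroup 2 Q → Q ≤ S₁)
    (c : G) (hcH : c ∈ H) {k : ℕ} (hck : orderOf c = 2 ^ k) :
    ∃ x ∈ H, x * c * x⁻¹ ∈ S₁ := by
  haveI : Fact (Nat.Prime 2) := ⟨Nat.prime_two⟩
  have h1 : IsPGroup 2 (S₁.subgroupOf H) := hS₁.comap_subtype
  obtain ⟨P₁, hP₁⟩ := h1.exists_le_sylow
  have hc' : orderOf (⟨c, hcH⟩ : H) = 2 ^ k := by rw [Subgroup.orderOf_mk]; exact hck
  obtain ⟨P₂, hP₂⟩ := exists_sylow_of_orderOf hc'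
  obtain ⟨g, hg⟩ := MulAction.exists_smul_eq H P₂ P₁
  have hmem : (g * ⟨c, hcH⟩ * g⁻¹ : H) ∈ (P₁ : Subgroup H) := by
    rw [← hg, Sylow.coe_subgroup_smul]
    exact ⟨⟨c, hcH⟩, hP₂, rfl⟩
  have hQ : (P₁ : Subgroup H).map H.subtype ≤ S₁ := by
    apply hmax
    · intro y hy
      exact ⟨⟨y, hS₁H hy⟩, hP₁ hy, rfl⟩
    · exact map_subtype_le _
    · exact P₁.2.map _
  refine ⟨g, g.2, ?_⟩
  exact hQ ⟨_, hmem, rfl⟩

end Cfsg.Agent.Lib.S1915Aux

namespace Cfsg.Agent.Lib.S1915Aux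

open Subgroup
open scoped commutatorElement Pointwise
open Cfsg.Agent.Lib.PGroup.CyclicMax Cfsg.Agent.Lib.Basic.SylowUtil

variable {G : Type*} [Group G] [Finite G]

theorem core (A U : Subgroup G) [hAn : A.Normal] (R : Sylow 2 G) (Q : Sylow 2 A)
    (hQ : ∀ y : A, y ∈ (Q : Subgroup A) ↔ (y : G) ∈ (R : Subgroup G))
    (hperf : ∀ M : Subgroup A, M.Normal → M.index = 2 → False)
    (hUR : U ≤ (R : Subgroup G)) (hU2 : ∀ v ∈ U, v ^ 2 = 1)
    (v₁ v₂ : G) (hv₁ : v₁ ∈ U) (hv₂ : v₂ ∈ U) (hv₁1 : v₁ ≠ 1) (hv₂1 : v₂ ≠ 1) (hv₁₂ : v₁ ≠ v₂)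
    (hH : ∀ v ∈ U, v ≠ 1 → ∀ p ∈ A, ∀ q ∈ A, p ^ 2 = 1 → q ^ 2 = 1 → p ≠ 1 → q ≠ 1 → p ≠ q →
      p * q = q * p → v * p = p * v → v * q = q * v → False)
    (u₀ : G) (n : ℕ) (hn2 : 2 ≤ n) (hord : orderOf u₀ = 2 ^ n) (huR : u₀ ∈ (R : Subgroup G))
    (huA : u₀ ∈ A) (hact : ∀ r ∈ (R : Subgroup G), r * u₀ * r⁻¹ ∈ zpowers u₀)
    (hcb : ∀ y ∈ (R : Subgroup G), y ∈ A → y * u₀ ^ (2 ^ (n - 2)) = u₀ ^ (2 ^ (n - 2)) * y →
      y ∈ zpowers u₀)
    (t : G) (htR : t ∈ (R : Subgroup G)) (htA : t ∈ A) (ht2 : t ^ 2 = 1) (htu : t ∉ zpowers u₀) :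
    False := by
  haveI : Fact (Nat.Prime 2) := ⟨Nat.prime_two⟩
  obtain ⟨N, hN⟩ : ∃ N, N = 2 ^ (n - 2) := ⟨_, rfl⟩
  rw [← hN] at hcb
  have h4N : (2 : ℕ) ^ n = 4 * N := by
    rw [hN]
    have : n = (n - 2) + 2 := by omega
    conv_lhs => rw [this, pow_add]
    ring
  have h2N : (2 : ℕ) ^ (n - 1) = 2 * N := by
    rw [hN, ← pow_succ']; congr 1; omega
  have hNpos : 0 < N := by rw [hN]; positivity
  set b := u₀ ^ N with hb
  have hbu : b ∈ zpowers u₀ := pow_mem (mem_zpowers u₀) _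
  have hb4 : b ^ 4 = 1 := by
    rw [hb, ← pow_mul, mul_comm, ← h4N, ← hord, pow_orderOf_eq_one]
  set z := b * b with hz
  have hzb : z = u₀ ^ 2 ^ (n - 1) := by
    rw [hz, h2N, hb, ← pow_add]; congr 1; ring
  have hz2 : z ^ 2 = 1 := by
    rw [sq, hz]
    have : b * b * (b * b) = b ^ 4 := by simp only [pow_succ, pow_zero, one_mul, mul_assoc]
    rw [this, hb4]
  have hz1 : z ≠ 1 := by
    rw [hzb]
    exact pow_ne_one_of_lt_orderOf (by positivity) (by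
      rw [hord, h4N, h2N]; omega)
  have hzu : z ∈ zpowers u₀ := mul_mem hbu hbu
  have hinv : ∀ w ∈ zpowers u₀, w ^ 2 = 1 → w ≠ 1 → w = z := by
    intro w hw hw2 hw1
    rw [hzb]
    exact eq_of_sq_eq_one (by omega) hord hw hw2 hw1
  have hzuR : zpowers u₀ ≤ (R : Subgroup G) := zpowers_le.mpr huR
  have hzuA : zpowers u₀ ≤ A := zpowers_le.mpr huA
  have hbR : b ∈ (R : Subgroup G) := hzuR hbu
  have hbA : b ∈ A := hzuA hbu
  have hzR : z ∈ (R : Subgroup G) := hzuR hzu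
  have hzA : z ∈ A := hzuA hzu
  have hzc : ∀ r ∈ (R : Subgroup G), r * z * r⁻¹ = z := by
    intro r hr
    apply hinv _ _ (by rw [conj_pow, hz2]; group)
    · intro h
      apply hz1
      have : z = r⁻¹ * (r * z * r⁻¹) * r := by group
      rw [this, h]; group
    · obtain ⟨k, hk⟩ := SC.exists_nat_pow (hact r hr)
      have e : r * z * r⁻¹ = (r * u₀ * r⁻¹) ^ (2 ^ (n - 1)) := by
        rw [conj_pow, ← hzb]
      rw [e, hk, ← pow_mul]
      exact pow_mem (mem_zpowers u₀) _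
  have hzc' : ∀ r ∈ (R : Subgroup G), r * z = z * r := by
    intro r hr
    have := hzc r hr
    rwa [mul_inv_eq_iff_eq_mul] at this
  have hb1 : b ≠ 1 := by
    intro h
    apply hz1
    rw [hz, h, one_mul]
  have hbz : b ≠ z := by
    intro h
    apply hz1
    have h2 : b * b = 1 := by
      have h3 : z * z = 1 := by rw [← sq]; exact hz2
      have h4 : z = b * b := hz
      rw [← h] at h3
      exact h3
    exact h2
  have hF3 : ∀ r ∈ (R : Subgroup G), r * b * r⁻¹ = b ∨ r * b * r⁻¹ = b⁻¹ := by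
    intro r hr
    obtain ⟨k, hk⟩ := SC.exists_nat_pow (hact r hr)
    have e : r * b * r⁻¹ = b ^ k := by
      rw [hb, ← conj_pow, hk, ← pow_mul, mul_comm, pow_mul]
    rw [e, pow_eq_pow_mod k hb4]
    have h5 : k % 4 < 4 := Nat.mod_lt _ (by norm_num)
    interval_cases h6 : k % 4
    · exfalso
      apply hb1
      rw [pow_eq_pow_mod k hb4, h6, pow_zero] at e
      have : b = r⁻¹ * (r * b * r⁻¹) * r := by group
      rw [this, e]; group
    · left; rw [pow_one]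
    · exfalso
      apply hbz
      rw [pow_eq_pow_mod k hb4, h6, sq] at e
      have h7 := hzc r⁻¹ (inv_mem hr)
      have : b = r⁻¹ * (r * b * r⁻¹) * r := by group
      rw [this, e]
      rw [inv_inv] at h7
      exact h7
    · right
      have : b ^ 3 * b = 1 := by rw [← pow_succ]; exact hb4
      exact eq_inv_of_mul_eq_one_left this
  have hcomm_of : ∀ r, r * b * r⁻¹ = b → r * b = b * r := by
    intro r h
    rwa [mul_inv_eq_iff_eq_mul] at h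
  -- F4: an element of `U` commuting with `b`
  obtain ⟨τ, hτU, hτ1, hτb⟩ : ∃ τ ∈ U, τ ≠ 1 ∧ τ * b = b * τ := by
    rcases hF3 v₁ (hUR hv₁) with h1 | h1
    · exact ⟨v₁, hv₁, hv₁1, hcomm_of _ h1⟩
    rcases hF3 v₂ (hUR hv₂) with h2 | h2
    · exact ⟨v₂, hv₂, hv₂1, hcomm_of _ h2⟩
    refine ⟨v₁ * v₂, mul_mem hv₁ hv₂, ?_, ?_⟩
    · intro h
      apply hv₁₂
      have h3 : v₁ * v₁ = 1 := by rw [← sq]; exact hU2 v₁ hv₁
      have h4 : v₂ = v₁⁻¹ := (inv_eq_of_mul_eq_one_right h).symm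
      rw [h4]
      exact (inv_eq_of_mul_eq_one_right h3).symm
    · apply hcomm_of
      have e : v₁ * v₂ * b * (v₁ * v₂)⁻¹ = v₁ * (v₂ * b * v₂⁻¹) * v₁⁻¹ := by group
      rw [e, h2]
      have e2 : v₁ * b⁻¹ * v₁⁻¹ = (v₁ * b * v₁⁻¹)⁻¹ := by group
      rw [e2, h1, inv_inv]
  have hτR : τ ∈ (R : Subgroup G) := hUR hτU
  have hτ2 : τ * τ = 1 := by rw [← sq]; exact hU2 τ hτU
  have hτinv : τ⁻¹ = τ := inv_eq_of_mul_eq_one_left hτ2
  have ht1 : t ≠ 1 := by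
    rintro rfl
    exact htu (one_mem _)
  have htt : t * t = 1 := by rw [← sq]; exact ht2
  have htinv : t⁻¹ = t := inv_eq_of_mul_eq_one_left htt
  have htz : z ≠ t := by
    intro h
    exact htu (h ▸ hzu)
  -- F6
  have hF6 : ∀ y ∈ (R : Subgroup G), y ∈ A → y ∉ zpowers u₀ → y * b * y⁻¹ = b⁻¹ := by
    intro y hyR hyA hyu
    rcases hF3 y hyR with h | h
    · exact absurd (hcb y hyR hyA (hcomm_of y h)) hyu
    · exact h
  have htb : t * b * t⁻¹ = b⁻¹ := hF6 t htR htA htu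
  -- F7
  have hAconj : ∀ r x : G, x ∈ A → r * x * r⁻¹ ∈ A := fun r x hx => hAn.conj_mem x hx r
  have hτbinv : τ * b⁻¹ = b⁻¹ * τ := by
    have : Commute τ b := hτb
    exact (this.inv_right).eq
  obtain ⟨t₁, ht₁⟩ : ∃ t₁, t₁ = τ * t * τ⁻¹ := ⟨_, rfl⟩
  have ht₁R : t₁ ∈ (R : Subgroup G) := by
    rw [ht₁]; exact mul_mem (mul_mem hτR htR) (inv_mem hτR)
  have ht₁A : t₁ ∈ A := by rw [ht₁]; exact hAconj τ t htA
  have ht₁inv : t₁⁻¹ = t₁ := by
    rw [ht₁]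
    have e : (τ * t * τ⁻¹)⁻¹ = τ * t⁻¹ * τ⁻¹ := by group
    rw [e, htinv]
  have hτbconj : τ * b * τ⁻¹ = b := by rw [hτb]; group
  have ht₁b : t₁ * b * t₁⁻¹ = b⁻¹ := by
    rw [ht₁]
    have e : τ * t * τ⁻¹ * b * (τ * t * τ⁻¹)⁻¹ = τ * (t * (τ⁻¹ * b * τ) * t⁻¹) * τ⁻¹ := by group
    have h1 : τ⁻¹ * b * τ = b := by rw [hτinv]; nth_rewrite 2 [← hτinv]; exact hτbconj
    rw [e, h1, htb]
    have e2 : τ * b⁻¹ * τ⁻¹ = (τ * b * τ⁻¹)⁻¹ := by group
    rw [e2, hτbconj]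
  obtain ⟨e, he⟩ : ∃ e, e = t₁ * t := ⟨_, rfl⟩
  have heR : e ∈ (R : Subgroup G) := by rw [he]; exact mul_mem ht₁R htR
  have heA : e ∈ A := by rw [he]; exact mul_mem ht₁A htA
  have heb : e * b * e⁻¹ = b := by
    rw [he]
    have e1 : t₁ * t * b * (t₁ * t)⁻¹ = t₁ * (t * b * t⁻¹) * t₁⁻¹ := by group
    rw [e1, htb]
    have e2 : t₁ * b⁻¹ * t₁⁻¹ = (t₁ * b * t₁⁻¹)⁻¹ := by group
    rw [e2, ht₁b, inv_inv]
  have heu : e ∈ zpowers u₀ := hcb e heR heA (hcomm_of e heb)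
  have he1 : e ≠ 1 := by
    intro h
    have h1 : t₁ = t := by
      rw [he] at h
      have := eq_inv_of_mul_eq_one_left h
      rwa [htinv] at this
    rw [ht₁, mul_inv_eq_iff_eq_mul] at h1
    exact hH τ hτU hτ1 z hzA t htA hz2 ht2 hz1 ht1 htz (hzc' t htR).symm (hzc' τ hτR) h1
  have hτe : τ * e * τ⁻¹ = e⁻¹ := by
    have h1 : τ * t₁ * τ⁻¹ = t := by
      rw [ht₁]
      have e1 : τ * (τ * t * τ⁻¹) * τ⁻¹ = (τ * τ) * t * (τ * τ)⁻¹ := by group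
      rw [e1, hτ2]; group
    have e1 : τ * (t₁ * t) * τ⁻¹ = (τ * t₁ * τ⁻¹) * (τ * t * τ⁻¹) := by group
    rw [he, e1, h1, ← ht₁, mul_inv_rev, htinv, ht₁inv]
  obtain ⟨k, hk⟩ := SC.exists_nat_pow (hact τ hτR)
  have hk4 : k ≡ 1 [MOD 4] := by
    have h1 : u₀ ^ (k * N) = u₀ ^ N := by
      have := conj_pow_eq hk N
      rw [← this, ← hb]; exact hτbconj
    have h2 := (pow_eq_pow_iff_modEq).mp h1
    rw [hord, h4N] at h2
    have h3 : k * N ≡ 1 * N [MOD 4 * N] := by simpa using h2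
    exact Nat.ModEq.mul_right_cancel' hNpos.ne' h3
  obtain ⟨j, hj⟩ := SC.exists_nat_pow heu
  have hek : e ^ k = e⁻¹ := by
    rw [← hτe, hj, conj_pow_eq hk j, mul_comm, pow_mul]
  have hek1 : e ^ (k + 1) = 1 := by
    rw [pow_succ, hek]; group
  have he2 : e ^ 2 = 1 := by
    obtain ⟨c, hc⟩ : ∃ c, k + 1 = 2 * (2 * c + 1) := by
      refine ⟨k / 4, ?_⟩
      have : k % 4 = 1 := hk4
      omega
    have h1 : (e ^ 2) ^ (2 * c + 1) = 1 := by
      rw [← pow_mul, ← hc, hek1]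
    have h2 : (e ^ 2) ^ (2 ^ n) = 1 := by
      have h0 : u₀ ^ (2 ^ n) = 1 := by rw [← hord, pow_orderOf_eq_one]
      have e0 : j * (2 * 2 ^ n) = 2 ^ n * (j * 2) := by ring
      rw [hj, ← pow_mul, ← pow_mul, e0, pow_mul, h0, one_pow]
    have h3 := (pow_gcd_eq_one).mpr ⟨h1, h2⟩
    have hco : Nat.gcd (2 * c + 1) (2 ^ n) = 1 := by
      apply Nat.Coprime.pow_right
      exact Nat.coprime_two_right.mpr ⟨c, rfl⟩
    rwa [hco, pow_one] at h3
  have hez : e = z := hinv e heu he2 he1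
  have hτt : τ * t * τ⁻¹ = z * t := by
    rw [← ht₁, ← hez, he, mul_assoc, htt, mul_one]
  -- F8
  obtain ⟨c, hc⟩ : ∃ c, c = b⁻¹ * τ := ⟨_, rfl⟩
  have hcR : c ∈ (R : Subgroup G) := by
    rw [hc]; exact mul_mem (inv_mem hbR) hτR
  have hcconj : c * t * c⁻¹ = t := by
    rw [hc]
    have e1 : b⁻¹ * τ * t * (b⁻¹ * τ)⁻¹ = b⁻¹ * (τ * t * τ⁻¹) * b := by group
    rw [e1, hτt, hz]
    have e2 : t * b = b⁻¹ * t := by
      rwa [mul_inv_eq_iff_eq_mul] at htb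
    have e3 : b⁻¹ * (b * b * t) * b = b * (t * b) := by group
    rw [e3, e2]; group
  have hct : c * t = t * c := by rwa [mul_inv_eq_iff_eq_mul] at hcconj
  have hbb : b⁻¹ * b⁻¹ = z := by
    have h1 : z * z = 1 := by rw [← sq]; exact hz2
    have h2 : z⁻¹ = z := inv_eq_of_mul_eq_one_left h1
    rw [← h2, hz]; group
  have hcc : c * c = z := by
    rw [hc]
    have e1 : b⁻¹ * τ * (b⁻¹ * τ) = b⁻¹ * (τ * b⁻¹) * τ := by group
    rw [e1, hτbinv]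
    have e2 : b⁻¹ * (b⁻¹ * τ) * τ = (b⁻¹ * b⁻¹) * (τ * τ) := by group
    rw [e2, hτ2, hbb, mul_one]
  have hcb' : c * b = b * c := by
    rw [hc, mul_assoc, hτb]; group
  have hcbconj : c * b * c⁻¹ = b := by rw [hcb']; group
  -- F9
  have hcA : c ∉ A := by
    intro h
    have hτA : τ ∈ A := by
      have : τ = b * c := by rw [hc]; group
      rw [this]
      exact mul_mem hbA h
    have hτu := hcb τ hτR hτA hτb
    have hτz : τ = z := hinv τ hτu (hU2 τ hτU) hτ1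
    have h1 := hzc t htR
    rw [hτz] at hτt
    have h2 : z * t * z⁻¹ = t := by
      have h3 := hzc' z hzR
      have h4 := hzc' t htR
      rw [← h4]; group
    rw [h2] at hτt
    apply hz1
    have : z = (z * t) * t⁻¹ := by group
    rw [this, ← hτt]; group
  have hcoz : orderOf c = 2 ^ 2 := by
    have h1 : c ^ 2 = z := by rw [sq]; exact hcc
    apply orderOf_eq_prime_pow (p := 2) (n := 1)
    · rw [pow_one, h1]; exact hz1
    · have e : (2 : ℕ) ^ (1 + 1) = 2 * 2 := by norm_num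
      rw [e, pow_mul, h1, hz2]
  -- F10
  have hqcc : (c : G ⧸ A) ^ 2 = 1 := by
    rw [← QuotientGroup.mk_pow, QuotientGroup.eq_one_iff, sq, hcc]; exact hzA
  obtain ⟨Y, hYdef⟩ : ∃ Y : Subgroup G, Y = (zpowers (c : G ⧸ A)).comap (QuotientGroup.mk' A) :=
    ⟨_, rfl⟩
  have hAY : A ≤ Y := by
    intro y hy
    rw [hYdef]
    show (y : G ⧸ A) ∈ zpowers (c : G ⧸ A)
    rw [(QuotientGroup.eq_one_iff y).mpr hy]; exact one_mem _
  have hcY : c ∈ Y := by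
    rw [hYdef]
    exact mem_zpowers (c : G ⧸ A)
  have hY : ∀ y ∈ Y, y ∈ A ∨ c⁻¹ * y ∈ A := by
    intro y hy
    rw [hYdef] at hy
    rcases mem_zpowers_sq hqcc hy with h | h
    · left; exact (QuotientGroup.eq_one_iff y).mp h
    · right; exact QuotientGroup.eq.mp h.symm
  -- F11 transfer
  have htP : (⟨t, htA⟩ : A) ∈ (Q : Subgroup A) := (hQ _).mpr htR
  have hQ₀ : (zpowers u₀).subgroupOf A ≤ (Q : Subgroup A) := fun a ha => (hQ a).mpr (hzuR ha)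
  have hidx : ((zpowers u₀).subgroupOf A).relIndex (Q : Subgroup A) = 2 := by
    unfold Subgroup.relIndex
    rw [Subgroup.index_eq_two_iff]
    refine ⟨⟨⟨t, htA⟩, htP⟩, ?_⟩
    rintro ⟨⟨y, hyA⟩, hyQ⟩
    have hyR : y ∈ (R : Subgroup G) := (hQ _).mp hyQ
    by_cases hy : y ∈ zpowers u₀
    · right
      refine ⟨hy, fun h' => htu ?_⟩
      have h'' : y * t ∈ zpowers u₀ := h'
      have : t = y⁻¹ * (y * t) := by group
      rw [this]; exact mul_mem (inv_mem hy) h''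
    · left
      refine ⟨?_, hy⟩
      show y * t ∈ zpowers u₀
      apply hcb _ (mul_mem hyR htR) (mul_mem hyA htA)
      apply hcomm_of
      have e1 : y * t * b * (y * t)⁻¹ = y * (t * b * t⁻¹) * y⁻¹ := by group
      rw [e1, htb]
      have e2 : y * b⁻¹ * y⁻¹ = (y * b * y⁻¹)⁻¹ := by group
      rw [e2, hF6 y hyR hyA hy, inv_inv]
  have hu : orderOf (⟨t, htA⟩ : A) = 2 := by
    rw [Subgroup.orderOf_mk]; exact orderOf_eq_prime ht2 ht1
  rcases Cfsg.Agent.S0111.result Q _ hQ₀ hidx ⟨t, htA⟩ hu htP (fun h' => htu h') with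
    ⟨M, hMn, hMi, -⟩ | ⟨g, hg⟩
  · exact hperf M hMn hMi
  have hg' : (g : G) * t * (g : G)⁻¹ ∈ zpowers u₀ := hg
  have hgz : (g : G) * t * (g : G)⁻¹ = z := by
    apply hinv _ hg' (by rw [conj_pow, ht2]; group)
    intro h'
    apply ht1
    have : t = (g : G)⁻¹ * ((g : G) * t * (g : G)⁻¹) * g := by group
    rw [this, h']; group
  obtain ⟨h, hhA, hth⟩ : ∃ h ∈ A, t = h * z * h⁻¹ :=
    ⟨(g : G)⁻¹, inv_mem g.2, by rw [← hgz]; group⟩
  have hhY : h ∈ Y := hAY hhA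
  -- F12
  obtain ⟨S₁, hS₁def⟩ : ∃ S₁ : Subgroup G,
      S₁ = ((R : Subgroup G) ⊓ Y).map (MulAut.conj h).toMonoidHom := ⟨_, rfl⟩
  have hS₁mem : ∀ y, y ∈ S₁ ↔ (h⁻¹ * y * h ∈ (R : Subgroup G) ∧ h⁻¹ * y * h ∈ Y) := by
    intro y
    rw [hS₁def]
    constructor
    · rintro ⟨w, ⟨hw1, hw2⟩, rfl⟩
      have e1 : h⁻¹ * ((MulAut.conj h).toMonoidHom w) * h = w := by
        simp [MulAut.conj_apply]; group
      rw [e1]
      exact ⟨hw1, hw2⟩
    · rintro ⟨h1, h2⟩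
      refine ⟨h⁻¹ * y * h, ⟨h1, h2⟩, ?_⟩
      simp [MulAut.conj_apply]; group
  obtain ⟨K, hKdef⟩ : ∃ K : Subgroup G, K = Y ⊓ centralizer ({t} : Set G) := ⟨_, rfl⟩
  have hKmem : ∀ x, x ∈ K ↔ (x ∈ Y ∧ x * t = t * x) := by
    intro x
    rw [hKdef, mem_inf, mem_centralizer_iff]
    constructor
    · rintro ⟨h1, h2⟩
      exact ⟨h1, (h2 t rfl).symm⟩
    · rintro ⟨h1, h2⟩
      refine ⟨h1, ?_⟩
      rintro _ rfl
      exact h2.symm
  have hS₁K : S₁ ≤ K := by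
    intro y hy
    obtain ⟨h1, h2⟩ := (hS₁mem y).mp hy
    rw [hKmem]
    constructor
    · have : y = h * (h⁻¹ * y * h) * h⁻¹ := by group
      rw [this]
      exact mul_mem (mul_mem hhY h2) (inv_mem hhY)
    · have h3 := hzc' _ h1
      have e1 : y = h * (h⁻¹ * y * h) * h⁻¹ := by group
      rw [hth]
      calc y * (h * z * h⁻¹) = h * ((h⁻¹ * y * h) * z) * h⁻¹ := by group
        _ = h * (z * (h⁻¹ * y * h)) * h⁻¹ := by rw [h3]
        _ = (h * z * h⁻¹) * y := by group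
  have hS₁p : IsPGroup 2 S₁ := by
    rw [hS₁def]
    exact (R.2.to_le inf_le_left).map _
  have hcS₁ : h * c * h⁻¹ ∈ S₁ := by
    rw [hS₁mem]
    have e1 : h⁻¹ * (h * c * h⁻¹) * h = c := by group
    rw [e1]
    exact ⟨hcR, hcY⟩
  have hmax : ∀ W : Subgroup G, S₁ ≤ W → W ≤ K → IsPGroup 2 W → W ≤ S₁ := by
    intro W hS₁W hWK hWp y hy
    rw [hS₁mem]
    -- the conjugate of `W`
    obtain ⟨W₂, hW₂⟩ : ∃ W₂ : Subgroup G, W₂ = W.map (MulAut.conj h⁻¹).toMonoidHom := ⟨_, rfl⟩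
    have hW₂mem : ∀ w, h * w * h⁻¹ ∈ W → w ∈ W₂ := by
      intro w hw
      rw [hW₂]
      refine ⟨_, hw, ?_⟩
      simp [MulAut.conj_apply]; group
    have hW₂p : IsPGroup 2 W₂ := by
      rw [hW₂]; exact hWp.map _
    have hcW₂ : c ∈ W₂ := hW₂mem c (hS₁W hcS₁)
    have hy₁ : h⁻¹ * y * h ∈ W₂ := by
      apply hW₂mem
      have : h * (h⁻¹ * y * h) * h⁻¹ = y := by group
      rw [this]; exact hy
    have hyY : h⁻¹ * y * h ∈ Y := by
      have h1 := ((hKmem y).mp (hWK hy)).1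
      exact mul_mem (mul_mem (inv_mem hhY) h1) hhY
    -- `W₂ ∩ A` is contained in `R`
    have hW₂A : ∀ a ∈ W₂, a ∈ A → a ∈ (R : Subgroup G) := by
      intro a haW haA
      have hp : IsPGroup 2 ((W₂ ⊓ A : Subgroup G).subgroupOf A) :=
        (hW₂p.to_le inf_le_left).comap_subtype
      have hle : (Q : Subgroup A) ≤ (W₂ ⊓ A : Subgroup G).subgroupOf A := by
        intro a' ha'
        have h1 : (a' : G) ∈ (R : Subgroup G) := (hQ a').mp ha'
        have h2 : h * (a' : G) * h⁻¹ ∈ S₁ := by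
          rw [hS₁mem]
          have e1 : h⁻¹ * (h * (a' : G) * h⁻¹) * h = a' := by group
          rw [e1]
          exact ⟨h1, hAY a'.2⟩
        exact ⟨hW₂mem _ (hS₁W h2), a'.2⟩
      have heq := Q.is_maximal' hp hle
      have hmemQ : (⟨a, haA⟩ : A) ∈ (Q : Subgroup A) := by
        rw [← heq]
        exact ⟨haW, haA⟩
      exact (hQ _).mp hmemQ
    refine ⟨?_, hyY⟩
    rcases hY _ hyY with h1 | h1
    · exact hW₂A _ hy₁ h1
    · have h2 := hW₂A _ (mul_mem (inv_mem hcW₂) hy₁) h1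
      have : h⁻¹ * y * h = c * (c⁻¹ * (h⁻¹ * y * h)) := by group
      rw [this]
      exact mul_mem hcR h2
  -- F13
  have hcK : c ∈ K := by rw [hKmem]; exact ⟨hcY, hct⟩
  obtain ⟨x, hxK, hxc⟩ := exists_conj_in K S₁ hS₁K hS₁p hmax c hcK hcoz
  obtain ⟨hxY, hxt⟩ := (hKmem x).mp hxK
  obtain ⟨hyR, hyY⟩ := (hS₁mem _).mp hxc
  -- F14
  obtain ⟨y, hy⟩ : ∃ y, y = h⁻¹ * (x * c * x⁻¹) * h := ⟨_, rfl⟩
  rw [← hy] at hyR hyY
  have hyA : y ∉ A := by
    intro hya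
    apply hcA
    have h1 : x * c * x⁻¹ ∈ A := by
      have : x * c * x⁻¹ = h * y * h⁻¹ := by rw [hy]; group
      rw [this]
      exact hAconj h y hya
    have h2 := hAconj x⁻¹ _ h1
    have e1 : x⁻¹ * (x * c * x⁻¹) * x⁻¹⁻¹ = c := by group
    rwa [e1] at h2
  have haA : c⁻¹ * y ∈ A := by
    rcases hY y hyY with h1 | h1
    · exact absurd h1 hyA
    · exact h1
  obtain ⟨a, ha⟩ : ∃ a, a = c⁻¹ * y := ⟨_, rfl⟩
  rw [← ha] at haA
  have haR : a ∈ (R : Subgroup G) := by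
    rw [ha]; exact mul_mem (inv_mem hcR) hyR
  obtain ⟨w, hw⟩ : ∃ w, w = c⁻¹ * a * c := ⟨_, rfl⟩
  have hwR : w ∈ (R : Subgroup G) := by
    rw [hw]; exact mul_mem (mul_mem (inv_mem hcR) haR) hcR
  have hwA : w ∈ A := by
    have := hAconj c⁻¹ a haA
    rwa [inv_inv, ← hw] at this
  have hcinv : c⁻¹ * b * c = b := by
    have : c⁻¹ * (c * b) = b := by group
    rw [hcb', ← mul_assoc] at this
    exact this
  have hwa : w * a * b * (w * a)⁻¹ = b := by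
    have e1 : w * a * b * (w * a)⁻¹ = w * (a * b * a⁻¹) * w⁻¹ := by group
    have e3 : ∀ s, w * s * w⁻¹ = c⁻¹ * (a * (c * s * c⁻¹) * a⁻¹) * c := by
      intro s; rw [hw]; group
    rw [e1, e3]
    rcases hF3 a haR with h1 | h1
    · rw [h1, hcbconj, h1, hcinv]
    · have e4 : c * b⁻¹ * c⁻¹ = (c * b * c⁻¹)⁻¹ := by group
      have e5 : a * b⁻¹ * a⁻¹ = (a * b * a⁻¹)⁻¹ := by group
      have e6 : c⁻¹ * b * c = b := hcinv
      rw [h1, e4, hcbconj, e5, h1, inv_inv, e6]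
  have hwau : w * a ∈ zpowers u₀ :=
    hcb _ (mul_mem hwR haR) (mul_mem hwA haA) (hcomm_of _ hwa)
  have hyy : y * y = z * (w * a) := by
    have hya : y = c * a := by rw [ha]; group
    rw [hya, ← hcc, hw]; group
  have hyyu : y * y ∈ zpowers u₀ := by rw [hyy]; exact mul_mem hzu hwau
  have hyyform : y * y = h⁻¹ * (x * z * x⁻¹) * h := by
    rw [hy, ← hcc]; group
  have hyy2 : (y * y) ^ 2 = 1 := by
    rw [hyyform]
    have e1 : h⁻¹ * (x * z * x⁻¹) * h = h⁻¹ * (x * z * x⁻¹) * h⁻¹⁻¹ := by group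
    rw [e1, conj_pow, conj_pow, hz2]; group
  have hyy1 : y * y ≠ 1 := by
    intro h'
    rw [hyyform] at h'
    apply hz1
    have e1 : z = x⁻¹ * (h * (h⁻¹ * (x * z * x⁻¹) * h) * h⁻¹) * x := by group
    rw [e1, h']; group
  have hyyz := hinv _ hyyu hyy2 hyy1
  rw [hyyform] at hyyz
  have h1 : x * z * x⁻¹ = t := by
    rw [hth]
    have e1 : x * z * x⁻¹ = h * (h⁻¹ * (x * z * x⁻¹) * h) * h⁻¹ := by group
    rw [e1, hyyz]
  have h2 : z = t := by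
    have e1 : z = x⁻¹ * (x * z * x⁻¹) * x := by group
    rw [e1, h1]
    have : x⁻¹ * t * x = x⁻¹ * (t * x) := by group
    rw [this, ← hxt]; group
  exact htz h2

end Cfsg.Agent.Lib.S1915Aux
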