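import Mathlib
import Cfsg.Prelude.Def_CaseTheorems
import Cfsg.Agent.Lib.S1915Aux.PartB

set_option autoImplicit false

namespace Cfsg.Agent.Lib.S1915Aux

open Subgroup
open scoped commutatorElement Pointwise
open Cfsg.Agent.Lib.PGroup.CyclicMax Cfsg.Agent.Lib.Basic.SylowUtil

/-- The four-group generated by two commuting involutions. -/
def fourSub {H : Type*} [Group H] (p q : H) (hp2 : p ^ 2 = 1) (hq2 : q ^ 2 = 1)
    (hc : p * q = q * p) : Subgroup H where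
  carrier := {x | x = 1 ∨ x = p ∨ x = q ∨ x = p * q}
  one_mem' := Or.inl rfl
  mul_mem' := by
    have e1 : p * p = 1 := by rw [← sq]; exact hp2
    have e2 : q * q = 1 := by rw [← sq]; exact hq2
    have e3 : q * p = p * q := hc.symm
    have e4 : p * (p * q) = q := by rw [← mul_assoc, e1, one_mul]
    have e5 : q * (p * q) = p := by rw [hc, ← mul_assoc, e2, one_mul]
    have e6 : p * q * p = q := by rw [hc, mul_assoc, e1, mul_one]
    have e7 : p * q * q = p := by rw [mul_assoc, e2, mul_one]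
    have e8 : p * q * (p * q) = 1 := by rw [← mul_assoc, e6, e2]
    rintro a b (rfl | rfl | rfl | rfl) (rfl | rfl | rfl | rfl) <;>
      simp only [Set.mem_ofPred_eq, mul_one, one_mul, e1, e2, e3, e4, e5, e6, e7, e8, true_or, or_true]
  inv_mem' := by
    have e1 : p⁻¹ = p := inv_eq_of_mul_eq_one_left (by rw [← sq]; exact hp2)
    have e2 : q⁻¹ = q := inv_eq_of_mul_eq_one_left (by rw [← sq]; exact hq2)
    rintro a (rfl | rfl | rfl | rfl)
    · left; simp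
    · right; left; exact e1
    · right; right; left; exact e2
    · right; right; right
      rw [mul_inv_rev, e1, e2, hc]

theorem fourSub_sq {H : Type*} [Group H] {p q : H} (hp2 : p ^ 2 = 1) (hq2 : q ^ 2 = 1)
    (hc : p * q = q * p) {x : H} (hx : x ∈ fourSub p q hp2 hq2 hc) : x ^ 2 = 1 := by
  rcases hx with rfl | rfl | rfl | rfl
  · simp
  · exact hp2
  · exact hq2
  · rw [(show Commute p q from hc).mul_pow, hp2, hq2, one_mul]

theorem fourSub_comm {H : Type*} [Group H] {p q : H} (hp2 : p ^ 2 = 1) (hq2 : q ^ 2 = 1)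
    (hc : p * q = q * p) {x y : H} (hx : x ∈ fourSub p q hp2 hq2 hc)
    (hy : y ∈ fourSub p q hp2 hq2 hc) : x * y = y * x := by
  have hc' : Commute p q := hc
  have e1 : Commute p (p * q) := (Commute.refl p).mul_right hc'
  have e2 : Commute q (p * q) := hc'.symm.mul_right (Commute.refl q)
  rcases hx with rfl | rfl | rfl | rfl <;> rcases hy with rfl | rfl | rfl | rfl <;>
    first
    | simp
    | exact hc
    | exact hc.symm
    | exact e1.eq
    | exact e1.eq.symm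
    | exact e2.eq
    | exact e2.eq.symm

/-- Two commuting involutions are impossible in a group of `2`-rank at most one. -/
theorem false_of_rank {H : Type*} [Group H] [Finite H] (hr : Cfsg.PRankLE 2 1 H) {p q : H}
    (hp2 : p ^ 2 = 1) (hq2 : q ^ 2 = 1) (hp1 : p ≠ 1) (hq1 : q ≠ 1) (hpq : p ≠ q)
    (hc : p * q = q * p) : False := by
  have h1 := hr (fourSub p q hp2 hq2 hc)
    ⟨⟨fun a b => Subtype.ext (fourSub_comm hp2 hq2 hc a.2 b.2)⟩⟩
    (fun a ha => fourSub_sq hp2 hq2 hc ha)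
  rw [pow_one] at h1
  have hle : zpowers p ≤ fourSub p q hp2 hq2 hc := by
    rw [zpowers_le]; exact Or.inr (Or.inl rfl)
  have hcz : Nat.card (zpowers p) = 2 := by
    rw [Nat.card_zpowers]; exact orderOf_eq_prime hp2 hp1
  have heq := Subgroup.eq_of_le_of_card_ge hle (by rw [hcz]; exact h1)
  have hq : q ∈ zpowers p := by
    rw [heq]; exact Or.inr (Or.inr (Or.inl rfl))
  rcases mem_zpowers_sq hp2 hq with h | h
  · exact hq1 h
  · exact hpq h.symm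

variable {G : Type*} [Group G] [Finite G]

theorem main_lemma (A U : Subgroup G) [hAn : A.Normal]
    (hperf : ∀ M : Subgroup A, M.Normal → M.index = 2 → False)
    (hUc : Nat.card U = 4) (hU2 : ∀ v ∈ U, v ^ 2 = 1)
    (hH : ∀ v ∈ U, v ≠ 1 → ∀ p ∈ A, ∀ q ∈ A, p ^ 2 = 1 → q ^ 2 = 1 → p ≠ 1 → q ≠ 1 → p ≠ q →
      p * q = q * p → v * p = p * v → v * q = q * v → False)
    (e₁ e₂ : G) (he₁ : e₁ ∈ A) (he₂ : e₂ ∈ A) (he₁2 : e₁ ^ 2 = 1) (he₂2 : e₂ ^ 2 = 1)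
    (he₁1 : e₁ ≠ 1) (he₂1 : e₂ ≠ 1) (he₁₂ : e₁ ≠ e₂) (he₁₂c : e₁ * e₂ = e₂ * e₁) : False := by
  haveI : Fact (Nat.Prime 2) := ⟨Nat.prime_two⟩
  have hUp : IsPGroup 2 U := IsPGroup.of_card (n := 2) (by rw [hUc]; norm_num)
  obtain ⟨R, hUR⟩ := hUp.exists_le_sylow
  obtain ⟨Q, hQmap⟩ := exists_sylow_inf_normal R A
  have hQ : ∀ y : A, y ∈ (Q : Subgroup A) ↔ (y : G) ∈ (R : Subgroup G) := by
    intro y
    constructor
    · intro hy
      have : (y : G) ∈ (Q : Subgroup A).map A.subtype := ⟨y, hy, rfl⟩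
      rw [hQmap] at this
      exact this.1
    · intro hy
      have : (y : G) ∈ (R : Subgroup G) ⊓ A := ⟨hy, y.2⟩
      rw [← hQmap] at this
      obtain ⟨y', hy', he⟩ := this
      have : y' = y := Subtype.ext he
      rwa [← this]
  -- two distinct nontrivial elements of `U`
  obtain ⟨v₁, hv₁, hv₁1⟩ : ∃ v ∈ U, v ≠ 1 := by
    by_contra h
    push Not at h
    have : U = ⊥ := (eq_bot_iff_forall _).mpr h
    rw [this] at hUc
    simp at hUc
  have hz₁ : Nat.card (zpowers v₁) = 2 := by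
    rw [Nat.card_zpowers]; exact orderOf_eq_prime (hU2 v₁ hv₁) hv₁1
  obtain ⟨v₂, hv₂, hv₂n⟩ : ∃ v ∈ U, v ∉ zpowers v₁ := by
    by_contra h
    push Not at h
    have := Subgroup.card_le_of_le (show U ≤ zpowers v₁ from h)
    omega
  have hv₂1 : v₂ ≠ 1 := fun h => hv₂n (h ▸ one_mem _)
  have hv₁₂ : v₁ ≠ v₂ := fun h => hv₂n (h ▸ mem_zpowers v₁)
  -- conjugating `e₁, e₂` into `Q`
  have hp2' : (⟨e₁, he₁⟩ : A) ^ 2 = 1 := Subtype.ext he₁2
  have hq2' : (⟨e₂, he₂⟩ : A) ^ 2 = 1 := Subtype.ext he₂2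
  have hc' : (⟨e₁, he₁⟩ : A) * ⟨e₂, he₂⟩ = ⟨e₂, he₂⟩ * ⟨e₁, he₁⟩ := Subtype.ext he₁₂c
  have hEp : IsPGroup 2 (fourSub _ _ hp2' hq2' hc') := by
    intro x
    exact ⟨1, by
      have := fourSub_sq hp2' hq2' hc' x.2
      exact Subtype.ext (by simpa using this)⟩
  obtain ⟨Q', hQ'⟩ := hEp.exists_le_sylow
  obtain ⟨g, hg⟩ := MulAction.exists_smul_eq A Q' Q
  have hconj : ∀ w ∈ (Q' : Subgroup A), g * w * g⁻¹ ∈ (Q : Subgroup A) := by
    intro w hw
    rw [← hg, Sylow.coe_subgroup_smul]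
    exact ⟨w, hw, rfl⟩
  have hs := hconj _ (hQ' (show (⟨e₁, he₁⟩ : A) ∈ fourSub _ _ hp2' hq2' hc' from Or.inr (Or.inl rfl)))
  have ht := hconj _ (hQ' (show (⟨e₂, he₂⟩ : A) ∈ fourSub _ _ hp2' hq2' hc' from
    Or.inr (Or.inr (Or.inl rfl))))
  rw [hQ] at hs ht
  obtain ⟨s₀, hs₀⟩ : ∃ s₀ : G, s₀ = (g : G) * e₁ * (g : G)⁻¹ := ⟨_, rfl⟩
  obtain ⟨t₀, ht₀⟩ : ∃ t₀ : G, t₀ = (g : G) * e₂ * (g : G)⁻¹ := ⟨_, rfl⟩
  have hsR : s₀ ∈ (R : Subgroup G) := by rw [hs₀]; exact hs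
  have htR : t₀ ∈ (R : Subgroup G) := by rw [ht₀]; exact ht
  have hsA : s₀ ∈ A := by
    rw [hs₀]; exact mul_mem (mul_mem g.2 he₁) (inv_mem g.2)
  have htA : t₀ ∈ A := by
    rw [ht₀]; exact mul_mem (mul_mem g.2 he₂) (inv_mem g.2)
  have hs2 : s₀ ^ 2 = 1 := by rw [hs₀, conj_pow, he₁2]; group
  have ht2 : t₀ ^ 2 = 1 := by rw [ht₀, conj_pow, he₂2]; group
  have hs1 : s₀ ≠ 1 := by
    rw [hs₀]; intro h; apply he₁1
    have : e₁ = (g : G)⁻¹ * ((g : G) * e₁ * (g : G)⁻¹) * g := by group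
    rw [this, h]; group
  have ht1 : t₀ ≠ 1 := by
    rw [ht₀]; intro h; apply he₂1
    have : e₂ = (g : G)⁻¹ * ((g : G) * e₂ * (g : G)⁻¹) * g := by group
    rw [this, h]; group
  have hst : s₀ ≠ t₀ := by
    rw [hs₀, ht₀]; intro h; apply he₁₂
    have e1 : e₁ = (g : G)⁻¹ * ((g : G) * e₁ * (g : G)⁻¹) * g := by group
    have e2 : e₂ = (g : G)⁻¹ * ((g : G) * e₂ * (g : G)⁻¹) * g := by group
    rw [e1, h, ← e2]
  -- the structure of `R ∩ A`
  have hno : ∀ p q : (R : Subgroup G), p ∈ A.subgroupOf (R : Subgroup G) →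
      q ∈ A.subgroupOf (R : Subgroup G) → p ^ 2 = 1 → q ^ 2 = 1 → p ≠ 1 → q ≠ 1 → p ≠ q →
      (∀ r, r * p * r⁻¹ = p) → (∀ r, r * q * r⁻¹ = q ∨ r * q * r⁻¹ = p * q) → False := by
    intro p q hpT hqT hp2 hq2 hp1 hq1 hpq hpc hqc
    have hkey : ∀ (v : G) (hv : v ∈ U), v ≠ 1 → (⟨v, hUR hv⟩ : (R : Subgroup G)) * q *
        (⟨v, hUR hv⟩ : (R : Subgroup G))⁻¹ = q → False := by
      intro v hv hv1 h
      have hvq : v * (q : G) = (q : G) * v := by
        have := congrArg Subtype.val ((mul_inv_eq_iff_eq_mul).mp h)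
        exact this
      have hvp : v * (p : G) = (p : G) * v := by
        have := congrArg Subtype.val ((mul_inv_eq_iff_eq_mul).mp (hpc ⟨v, hUR hv⟩))
        exact this
      have hpq' : (p : G) * q = q * p := by
        have := congrArg Subtype.val ((mul_inv_eq_iff_eq_mul).mp (hpc q))
        exact this.symm
      refine hH v hv hv1 p hpT q hqT (congrArg Subtype.val hp2) (congrArg Subtype.val hq2)
        (fun h' => hp1 (Subtype.ext h')) (fun h' => hq1 (Subtype.ext h'))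
        (fun h' => hpq (Subtype.ext h')) hpq' hvp hvq
    have hv₁' : v₁ * (q : G) * v₁⁻¹ = (p : G) * q := by
      rcases hqc ⟨v₁, hUR hv₁⟩ with h | h
      · exact (hkey v₁ hv₁ hv₁1 h).elim
      · exact congrArg Subtype.val h
    have hv₂' : v₂ * (q : G) * v₂⁻¹ = (p : G) * q := by
      rcases hqc ⟨v₂, hUR hv₂⟩ with h | h
      · exact (hkey v₂ hv₂ hv₂1 h).elim
      · exact congrArg Subtype.val h
    have hv₃1 : v₁ * v₂ ≠ 1 := by
      intro h
      apply hv₁₂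
      have h3 : v₁ * v₁ = 1 := by rw [← sq]; exact hU2 v₁ hv₁
      have h4 : v₂ = v₁⁻¹ := (inv_eq_of_mul_eq_one_right h).symm
      rw [h4]
      exact (inv_eq_of_mul_eq_one_right h3).symm
    apply hkey (v₁ * v₂) (mul_mem hv₁ hv₂) hv₃1
    apply Subtype.ext
    show (v₁ * v₂) * (q : G) * (v₁ * v₂)⁻¹ = q
    have e1 : (v₁ * v₂) * (q : G) * (v₁ * v₂)⁻¹ = v₁ * (v₂ * (q : G) * v₂⁻¹) * v₁⁻¹ := by group
    rw [e1, hv₂']
    have h5 : v₁ * (p : G) * v₁⁻¹ = p := congrArg Subtype.val (hpc ⟨v₁, hUR hv₁⟩)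
    have e2 : v₁ * ((p : G) * q) * v₁⁻¹ = (v₁ * (p : G) * v₁⁻¹) * (v₁ * (q : G) * v₁⁻¹) := by group
    rw [e2, h5, hv₁']
    have h6 : (p : G) * p = 1 := by rw [← sq]; exact congrArg Subtype.val hp2
    rw [← mul_assoc, h6, one_mul]
  obtain ⟨u, n, hn2, hord, huT, hact, hcb⟩ := partA R.2 (A.subgroupOf (R : Subgroup G)) hno
    ⟨s₀, hsR⟩ ⟨t₀, htR⟩ hsA htA (Subtype.ext hs2) (Subtype.ext ht2)
    (fun h => hs1 (congrArg Subtype.val h)) (fun h => ht1 (congrArg Subtype.val h))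
    (fun h => hst (congrArg Subtype.val h))
  have hord' : orderOf (u : G) = 2 ^ n := by rw [Subgroup.orderOf_coe]; exact hord
  have hact' : ∀ r ∈ (R : Subgroup G), r * (u : G) * r⁻¹ ∈ zpowers (u : G) := by
    intro r hr
    obtain ⟨k, hk⟩ := SC.exists_nat_pow (hact ⟨r, hr⟩)
    have := congrArg Subtype.val hk
    have h7 : r * (u : G) * r⁻¹ = (u : G) ^ k := this
    rw [h7]
    exact pow_mem (mem_zpowers _) _
  have hcb' : ∀ y ∈ (R : Subgroup G), y ∈ A →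
      y * (u : G) ^ (2 ^ (n - 2)) = (u : G) ^ (2 ^ (n - 2)) * y → y ∈ zpowers (u : G) := by
    intro y hyR hyA hyb
    have h8 := hcb ⟨y, hyR⟩ hyA (Subtype.ext hyb)
    obtain ⟨k, hk⟩ := SC.exists_nat_pow h8
    have h9 : y = (u : G) ^ k := congrArg Subtype.val hk
    rw [h9]
    exact pow_mem (mem_zpowers _) _
  -- an involution outside `zpowers u`
  obtain ⟨t', ht'R, ht'A, ht'2, ht'u⟩ : ∃ t' ∈ (R : Subgroup G), t' ∈ A ∧ t' ^ 2 = 1 ∧
      t' ∉ zpowers (u : G) := by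
    by_cases h1 : s₀ ∈ zpowers (u : G)
    · refine ⟨t₀, htR, htA, ht2, fun h2 => hst ?_⟩
      rw [eq_of_sq_eq_one (by omega) hord' h1 hs2 hs1, eq_of_sq_eq_one (by omega) hord' h2 ht2 ht1]
    · exact ⟨s₀, hsR, hsA, hs2, h1⟩
  exact core A U R Q hQ hperf hUR hU2 v₁ v₂ hv₁ hv₂ hv₁1 hv₂1 hv₁₂ hH u n hn2 hord' u.2 huT hact'
    hcb' t' ht'R ht'A ht'2 ht'u

end Cfsg.Agent.Lib.S1915Aux
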